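import Mathlib.Data.ZMod.Basic
import Mathlib.Algebra.Field.ZMod
import Mathlib.Tactic.LinearCombination
import Mathlib.Tactic.Linarith
import Mathlib.Tactic.Ring

/-!
The exceptional numbers of Sylow subgroups, detected through divisors.
-/

set_option autoImplicit false

namespace CfsgLib.CharDeep.BrauerNumber

/-- The exceptional form of `n`. -/
def IsForm (p n : ℕ) : Prop :=
  ∃ h u : ℕ, 0 < h ∧ 0 < u ∧ n * (u + 1) = h * u * p + u ^ 2 + u + h

variable {p : ℕ} [hp : Fact p.Prime]

theorem cast_pred : ((p - 1 : ℕ) : ZMod p) = -1 := by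
  rw [Nat.cast_sub hp.out.one_le, ZMod.natCast_self, Nat.cast_one, zero_sub]

theorem mod_one_of_cast {D : ℕ} (h : (D : ZMod p) = 1) : D % p = 1 := by
  rw [← ZMod.val_natCast, h, ZMod.val_one]

theorem le_of_cast_eq {a b : ℕ} (hb : b < p) (h : (a : ZMod p) = (b : ZMod p)) : b ≤ a := by
  have h1 := congrArg ZMod.val h
  rw [ZMod.val_natCast, ZMod.val_natCast, Nat.mod_eq_of_lt hb] at h1
  exact h1 ▸ Nat.mod_le a p

/-- A proper divisor congruent to one gives the form. -/
theorem isForm_of_dvd {n D : ℕ} (h1 : 1 < D) (hlt : D < 1 + n * p) (hmod : D % p = 1)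
    (hdvd : D ∣ (1 + n * p) * (p - 1)) : IsForm p n := by
  set u := D / p with hu
  have hD : D = u * p + 1 := by rw [hu, ← hmod]; exact (Nat.div_add_mod' D p).symm
  have hu0 : 0 < u := by
    rcases Nat.eq_zero_or_pos u with e | e
    · rw [e, zero_mul] at hD; omega
    · exact e
  have hun : u < n := by
    by_contra hle
    push Not at hle
    have := Nat.mul_le_mul_right p hle
    omega
  obtain ⟨k, hk⟩ : ∃ k, n = u + k := ⟨n - u, by omega⟩
  have hk0 : 0 < k := by omega
  obtain ⟨q, hq⟩ : ∃ q, p = q + 1 := ⟨p - 1, by have := hp.out.one_le; omega⟩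
  have hqe : p - 1 = q := by omega
  have hNq : k * p * (D + q) + D * (D + q) = (1 + n * p) * D + (1 + n * p) * (p - 1) := by
    rw [hqe, hk, hD]; ring
  have hcop : Nat.Coprime D (p * p) := by
    have h2 : ¬ p ∣ D := fun h => by
      rw [Nat.dvd_iff_mod_eq_zero, hmod] at h
      exact one_ne_zero h
    exact ((hp.out.coprime_iff_not_dvd.2 h2).symm).mul_right (hp.out.coprime_iff_not_dvd.2 h2).symm
  have hd1 : D ∣ k * (u + 1) * (p * p) := by
    have h2 : k * (u + 1) * (p * p) = k * p * (D + q) := by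
      have h3 : (u + 1) * p = D + q := by rw [hD, hq]; ring
      rw [← h3]; ring
    rw [h2]
    exact (Nat.dvd_add_left ⟨D + q, rfl⟩).1 (hNq ▸ dvd_add ⟨1 + n * p, mul_comm _ _⟩ hdvd)
  obtain ⟨h, hh⟩ := hcop.dvd_of_dvd_mul_right hd1
  refine ⟨h, u, ?_, hu0, ?_⟩
  · rcases Nat.eq_zero_or_pos h with e | e
    · rw [e, mul_zero, mul_eq_zero] at hh; omega
    · exact e
  · rw [hk, add_mul, hh, hD]; ring

/-- A Sylow number splitting off a factor congruent to one gives the form. -/
theorem isForm_of_split {n m k : ℕ} (hm : 0 < m) (hk : 0 < k)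
    (h : 1 + n * p = (1 + m * p) * (1 + k * p)) : IsForm p n := by
  have hn : n = m + k + m * k * p := by
    refine Nat.eq_of_mul_eq_mul_right hp.out.pos ?_
    linear_combination h
  exact ⟨k * (m + 1), m, Nat.mul_pos hk (by omega), hm, by rw [hn]; ring⟩

/-- Degrees congruent to one. -/
theorem plus_degree {e t n f v : ℕ} (het : e * t + 1 = p) (hform : ¬ IsForm p n)
    (hf1 : 1 < f) (hf : (f : ZMod p) = 1) (hv : f * v = e * (1 + n * p)) : f = 1 + n * p := by
  rcases lt_trichotomy f (1 + n * p) with hlt | heq | hgt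
  · refine absurd (isForm_of_dvd hf1 hlt (mod_one_of_cast hf) ?_) hform
    rw [show p - 1 = e * t by omega, ← mul_assoc, mul_comm (1 + n * p) e, ← hv, mul_assoc]
    exact dvd_mul_right f _
  · exact heq
  · exfalso
    have he : 0 < e := by
      rcases Nat.eq_zero_or_pos e with e0 | e0
      · subst e0; have := hp.out.two_le; omega
      · exact e0
    have ht : 0 < t := by
      rcases Nat.eq_zero_or_pos t with e0 | e0
      · subst e0; have := hp.out.two_le; omega
      · exact e0
    have hep : e < p := by have := Nat.le_mul_of_pos_right e ht; omega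
    have hve : (v : ZMod p) = e := by
      have h1 := congrArg (Nat.cast : ℕ → ZMod p) hv
      push_cast at h1
      rwa [hf, one_mul, ZMod.natCast_self, mul_zero, add_zero, mul_one] at h1
    have h2 := le_of_cast_eq hep hve
    have h3 : (1 + n * p) * e < f * e := Nat.mul_lt_mul_of_pos_right hgt he
    have h4 := Nat.mul_le_mul_left f h2
    rw [hv, mul_comm e] at h4
    omega

/-- Degrees congruent to minus one. -/
theorem minus_degree {e t n f v : ℕ} (het : e * t + 1 = p) (hform : ¬ IsForm p n)
    (hf : (f : ZMod p) = -1) (hv : f * v = e * (1 + n * p)) :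
    f + 1 = p ∨ (v = 1 ∧ t = 1) := by
  have hDf : v * t * f = (1 + n * p) * (p - 1) := by
    rw [show p - 1 = e * t by omega]; linear_combination t * hv
  have hp1 : p - 1 ≤ f := le_of_cast_eq (p := p) (b := p - 1) (by have := hp.out.pos; omega)
    (by rw [cast_pred, hf])
  by_contra hcon
  push Not at hcon
  obtain ⟨hne, hvt⟩ := hcon
  have hlt : p - 1 < f := by omega
  have hmod : ((v * t : ℕ) : ZMod p) = 1 := by
    have h1 := congrArg (Nat.cast : ℕ → ZMod p) hDf
    rw [Nat.cast_mul _ f, hf, Nat.cast_mul _ (p - 1), cast_pred] at h1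
    push_cast at h1 ⊢
    rw [ZMod.natCast_self, mul_zero, add_zero, one_mul, mul_neg_one, neg_inj] at h1
    exact h1
  have h0 : v * t ≠ 0 := fun e0 => by rw [e0, Nat.cast_zero] at hmod; exact zero_ne_one hmod
  have h1 : 1 < v * t := by
    rcases Nat.lt_or_ge 1 (v * t) with h | h
    · exact h
    · exfalso
      have h2 : v * t = 1 := by omega
      exact hvt (Nat.eq_one_of_mul_eq_one_right h2) (Nat.eq_one_of_mul_eq_one_left h2)
  refine hform (isForm_of_dvd h1 ?_ (mod_one_of_cast hmod) ⟨f, hDf.symm⟩)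
  refine Nat.lt_of_mul_lt_mul_right (a := f) ?_
  rw [hDf]
  exact Nat.mul_lt_mul_of_pos_left hlt (by omega)

/-- The exceptional degree with positive sign. -/
theorem exc_plus {e t n f v c : ℕ} (het : e * t + 1 = p) (ht : 2 ≤ t) (hform : ¬ IsForm p n)
    (he : 0 < e) (hN : 1 + n * p = t * v) (hf : (f : ZMod p) = e) (hc : f * c = e * v) : f = e := by
  have hep : e < p := by have := Nat.mul_le_mul_left e ht; omega
  have hle := le_of_cast_eq hep hf
  rcases hle.lt_or_eq with hlt | heq
  · have hDf : t * c * f = (1 + n * p) * e := by rw [hN]; linear_combination t * hc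
    have hmod : ((t * c : ℕ) : ZMod p) = 1 := by
      have h1 := congrArg (Nat.cast : ℕ → ZMod p) hDf
      rw [Nat.cast_mul _ f, hf, Nat.cast_mul _ e] at h1
      push_cast at h1 ⊢
      rw [ZMod.natCast_self, mul_zero, add_zero, one_mul] at h1
      refine mul_right_cancel₀ (fun e0 => ?_) (h1.trans (one_mul _).symm)
      have := Nat.eq_zero_of_dvd_of_lt ((ZMod.natCast_eq_zero_iff e p).1 e0) hep
      omega
    have hc0 : 0 < c := by
      rcases Nat.eq_zero_or_pos c with e0 | e0
      · subst e0; simp at hmod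
      · exact e0
    refine absurd (isForm_of_dvd ?_ ?_ (mod_one_of_cast hmod) ?_) hform
    · have := Nat.mul_le_mul ht hc0; omega
    · refine Nat.lt_of_mul_lt_mul_right (a := f) ?_
      rw [hDf]
      exact Nat.mul_lt_mul_of_pos_left hlt (by omega)
    · rw [show p - 1 = e * t by omega, ← mul_assoc, ← hDf]
      exact ⟨f * t, by ring⟩
  · exact heq.symm

/-- The exceptional degree with negative sign. -/
theorem exc_minus {e t n f v c : ℕ} (het : e * t + 1 = p) (ht : 2 ≤ t) (hform : ¬ IsForm p n)
    (he : 0 < e) (hN : 1 + n * p = t * v) (hf : (f : ZMod p) = -e) (hc : f * c = e * v) :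
    f = v := by
  have hep : e < p := by have := Nat.mul_le_mul_left e ht; omega
  have hDc : t * f * c = (1 + n * p) * e := by rw [hN]; linear_combination t * hc
  have hmod : ((t * f : ℕ) : ZMod p) = 1 := by
    have h1 := congrArg (Nat.cast : ℕ → ZMod p) het
    push_cast at h1 ⊢
    rw [ZMod.natCast_self] at h1
    rw [hf]
    linear_combination -h1
  have hce : (c : ZMod p) = e := by
    have h1 := congrArg (Nat.cast : ℕ → ZMod p) hDc
    rw [Nat.cast_mul _ c, hmod, one_mul] at h1
    push_cast at h1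
    rwa [ZMod.natCast_self, mul_zero, add_zero, one_mul] at h1
  have hle := le_of_cast_eq hep hce
  have hf0 : 0 < f := by
    rcases Nat.eq_zero_or_pos f with e0 | e0
    · subst e0; simp at hmod
    · exact e0
  have h2 : t * f * e ≤ (1 + n * p) * e := hDc ▸ Nat.mul_le_mul_left _ hle
  rcases (Nat.le_of_mul_le_mul_right h2 he).lt_or_eq with hlt | heq
  · refine absurd (isForm_of_dvd ?_ hlt (mod_one_of_cast hmod) ?_) hform
    · have := Nat.mul_le_mul ht hf0; omega
    · rw [show p - 1 = e * t by omega, ← mul_assoc, ← hDc]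
      exact ⟨c * t, by ring⟩
  · exact Nat.eq_of_mul_eq_mul_left (by omega) (heq.trans hN)

/-- The nonprincipal characters cannot all have the degree `1 + n p` with positive sign. -/
theorem not_all_plus {e t n f : ℕ} {δ : ℤ} (het : e * t + 1 = p) (he : 2 ≤ e) (ht : 0 < t) (hn : 0 < n)
    (hδ : δ = 1 ∨ δ = -1) (hd : f ∣ e * (1 + n * p))
    (hr : δ * (f : ℤ) = 1 + ((e - 1 : ℕ) : ℤ) * ((1 + n * p : ℕ) : ℤ)) : False := by
  have hep : e < p := by have := Nat.le_mul_of_pos_right e ht; omega
  have hpN : p < 1 + n * p := by have := Nat.le_mul_of_pos_left p hn; omega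
  have hnat : f = 1 + (e - 1) * (1 + n * p) := by
    rcases hδ with hs | hs <;> rw [hs] at hr
    · rw [one_mul] at hr
      exact_mod_cast hr
    · exfalso
      have h2 : (0 : ℤ) ≤ ((e - 1 : ℕ) : ℤ) * ((1 + n * p : ℕ) : ℤ) := by positivity
      linarith [Int.natCast_nonneg f]
  have hco : Nat.Coprime f (1 + n * p) := by
    rw [hnat, Nat.coprime_add_mul_right_left]
    exact Nat.coprime_one_left _
  have h3 := Nat.le_of_dvd (by omega) (hco.dvd_of_dvd_mul_right hd)
  have : 1 + n * p ≤ (e - 1) * (1 + n * p) := Nat.le_mul_of_pos_left _ (by omega)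
  omega

end CfsgLib.CharDeep.BrauerNumber
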