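import Cfsg.Agent.Lib.DefectOne.Principal
import Cfsg.Agent.Lib.BrauerRey.Blocks
import Cfsg.Agent.Lib.CharDeep.BrauerNumber.Arith
import Cfsg.Agent.Lib.Solvable.Core
import Cfsg.Agent.Lib.Char.Kernel

/-!
A perfect group with Sylow subgroups of prime order and no exceptional form: the centraliser.
-/

set_option autoImplicit false

namespace CfsgLib.CharDeep.BrauerNumber

open Cfsg CfsgLib.DefectOne CfsgLib.BrauerRey
open scoped ComplexConjugate Classical

universe u

variable {G : Type u} [Group G] [Finite G] {p : ℕ} [Fact p.Prime] {z : G}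

theorem norm_not_le (h : HypOne p z) (hperf : commutator G = ⊤) : ¬ norm₁ z ≤ cent z := by
  intro hle
  obtain ⟨P, hP⟩ : ∃ P : Sylow p G, (P : Subgroup G) = Subgroup.zpowers z := by
    have hc : Nat.card (Subgroup.zpowers z) = p ^ (Nat.card G).factorization p := by
      rw [h.card_zpowers, h.factorization_eq_one, pow_one]
    exact ⟨Sylow.ofCard _ hc, rfl⟩
  have hle' : Subgroup.normalizer ((P : Subgroup G) : Set G) ≤
      Subgroup.centralizer ((P : Subgroup G) : Set G) := by
    rw [hP, show Subgroup.centralizer ((Subgroup.zpowers z : Subgroup G) : Set G) = cent z by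
      rw [Subgroup.zpowers_eq_closure, Subgroup.centralizer_closure]]
    exact hle
  have hc := MonoidHom.ker_transferSylow_isComplement' P hle'
  have hcomm : ∀ a b : (P : Subgroup G), a * b = b * a := by
    rw [hP]
    rintro ⟨a, ha⟩ ⟨b, hb⟩
    obtain ⟨i, rfl⟩ := Subgroup.mem_zpowers_iff.1 ha
    obtain ⟨j, rfl⟩ := Subgroup.mem_zpowers_iff.1 hb
    exact Subtype.ext (zpow_mul_comm z i j)
  letI : CommGroup (P : Subgroup G) :=
    { (inferInstance : Group (P : Subgroup G)) with mul_comm := hcomm }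
  have ht : (MonoidHom.transferSylow P hle').ker = ⊤ :=
    eq_top_iff.2 fun g _ => MonoidHom.mem_ker.2 (hom_eq_one (A := (P : Subgroup G)) hperf _ g)
  rw [ht, Subgroup.isComplement'_top_left, hP, Subgroup.zpowers_eq_bot] at hc
  exact h.ne_one hc

theorem card_sylow_eq (h : HypOne p z) : Nat.card (Sylow p G) = (norm₁ z).index := by
  have hc : Nat.card (Subgroup.zpowers z) = p ^ (Nat.card G).factorization p := by
    rw [h.card_zpowers, h.factorization_eq_one, pow_one]
  exact Sylow.card_eq_index_normalizer (Sylow.ofCard (Subgroup.zpowers z) hc : Sylow p G)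

/-- The numerical data without any condition on the centraliser. -/
theorem exists_nums (h : HypOne p z) (hperf : commutator G = ⊤) {n : ℕ}
    (hn : Nat.card (Sylow p G) = 1 + n * p) :
    ∃ e t : ℕ, 2 ≤ e ∧ 0 < t ∧ e * t + 1 = p ∧ 0 < n ∧
      Nat.card (h.expGroup (CfsgLib.Char.principalIrr : IrrCharacter (regPart p z))) = e ∧
      (h.expGroup (CfsgLib.Char.principalIrr : IrrCharacter (regPart p z))).index = t ∧
      (cent z).relIndex (norm₁ z) = e ∧ (cent z).index = e * (1 + n * p) := by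
  set φ : IrrCharacter (regPart p z) := CfsgLib.Char.principalIrr
  have he := h.card_expGroup_principal
  have hmul := h.card_mul_index_expGroup φ
  have hp := h.prime.two_le
  refine ⟨(cent z).relIndex (norm₁ z), (h.expGroup φ).index, ?_, ?_, by rw [← he]; show Nat.card (h.expGroup φ) * _ + 1 = p; omega, ?_, he,
    rfl, rfl, ?_⟩
  · by_contra hlt
    have h0 : (cent z).relIndex (norm₁ z) ≠ 0 :=
      Subgroup.index_ne_zero_of_finite (H := (cent z).subgroupOf (norm₁ z))
    exact norm_not_le h hperf (Subgroup.relIndex_eq_one.1 (by omega))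
  · exact Nat.pos_of_ne_zero Subgroup.index_ne_zero_of_finite
  · by_contra h0
    have htop : norm₁ z = ⊤ := by
      rw [← Subgroup.index_eq_one, ← card_sylow_eq h, hn, show n = 0 by omega, zero_mul, add_zero]
    obtain ⟨k, -, hker⟩ := h.exists_expHom
    refine norm_not_le h hperf fun g hg => (hker ⟨g, hg⟩).1 ?_
    let e1 : G ≃* norm₁ z := Subgroup.topEquiv.symm.trans (MulEquiv.subgroupCongr htop.symm)
    have := hom_eq_one hperf (k.comp e1.toMonoidHom) (e1.symm ⟨g, hg⟩)
    simpa using this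
  · rw [← hn, card_sylow_eq h]
    exact (Subgroup.relIndex_mul_index (cent_le_norm h)).symm

/-- The values of a member of the principal set on the section of `z`. -/
theorem val_bset (h : HypOne p z) {χ : IrrCharacter G}
    (hχ : χ ∈ h.bset (CfsgLib.Char.principalIrr : IrrCharacter (regPart p z))) {i : ℕ}
    (hi : ¬ p ∣ i) (v : regPart p z) :
    (χ : G → ℂ) (z ^ i * (v : G)) =
      sec p z (CfsgLib.Char.principalIrr : IrrCharacter (regPart p z)) χ (i : ZMod p) := by
  have hi' : (i : ZMod p) ≠ 0 := fun e => hi ((ZMod.natCast_eq_zero_iff _ _).1 e)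
  rw [h.apply_pow_mul, Finset.sum_eq_single CfsgLib.Char.principalIrr]
  · rw [h.secCoef_eq_sec, CfsgLib.Char.principalIrr_apply, mul_one]
  · intro ψ _ hne
    have hnb : χ ∉ h.bset ψ := fun hm => hne (by
      have := h.mem_orbitN_of_mem_bset hχ hm
      rwa [h.orbitN_principal, Finset.mem_singleton] at this)
    rw [h.secCoef_eq_sec,
      show (i : ZMod p) = ((Units.mk0 _ hi' : (ZMod p)ˣ) : ZMod p) from rfl,
      (h.dd_eq_zero_iff ψ χ).1 (h.not_mem_bset_iff.1 hnb), zero_mul]
  · exact fun hn => absurd (Finset.mem_univ _) hn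

/-- Degrees whose characters have a sum of `±1` at `z` divide the class size of `z`. -/
theorem dvd_index_of_sum (S : Finset (IrrCharacter G)) {f : ℕ} (hf : f ≠ 0)
    (hS : ∀ χ ∈ S, BrauerRey.deg χ = f) {s : ℤ} (hs : s = 1 ∨ s = -1)
    (hsum : ∑ χ ∈ S, (χ : G → ℂ) z = (s : ℂ)) : f ∣ (cent z).index := by
  have h1 : IsIntegral ℤ (∑ χ ∈ S, (((cent z).index : ℂ) * (χ : G → ℂ) z / (f : ℂ))) := by
    refine IsIntegral.sum _ fun χ hχ => ?_
    obtain ⟨N, ρ, hρ, hχρ⟩ := χ.2
    haveI := hρ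
    have h2 := CfsgLib.Char.isIntegral_index_mul_char_div ρ z
    have hN : (f : ℂ) = (N : ℂ) := by
      rw [← hS χ hχ, BrauerRey.deg_cast, ← hχρ, Representation.char_one, Module.finrank_fin_fun]
    rw [Module.finrank_fin_fun, ← hN, hχρ] at h2
    exact h2
  rw [← Finset.sum_div, ← Finset.mul_sum, hsum] at h1
  refine CfsgLib.Char.dvd_of_isIntegral_natCast_div hf ?_
  rcases hs with rfl | rfl
  · simpa using h1
  · have := h1.neg
    simpa [neg_div] using this

theorem shape_facts (h : HypOne p z) {Y : Finset (IrrCharacter G)} {δ : ℤ}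
    {m : IrrCharacter G → ℤ}
    (sh : h.Shape (CfsgLib.Char.principalIrr : IrrCharacter (regPart p z)) Y δ m) :
    ∃ f : ℕ, 0 < f ∧ (∀ θ ∈ Y, BrauerRey.deg θ = f) ∧
      (δ : ℤ) * (f : ℤ) =
        ∑ χ ∈ h.bset (CfsgLib.Char.principalIrr : IrrCharacter (regPart p z)) \ Y,
          (-m χ) * (BrauerRey.deg χ : ℤ) ∧
      (∀ r : (ZMod p)ˣ, ∑ θ ∈ Y,
        sec p z (CfsgLib.Char.principalIrr : IrrCharacter (regPart p z)) θ r = -(δ : ℂ)) := by
  set φ : IrrCharacter (regPart p z) := CfsgLib.Char.principalIrr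
  obtain ⟨θ₀, hθ₀, -⟩ := sh.single
  have h1r : ¬ p ∣ orderOf (1 : G) := by
    rw [orderOf_one]; exact h.prime.not_dvd_one
  have hdY : ∀ θ ∈ Y, BrauerRey.deg θ = BrauerRey.deg θ₀ := fun θ hθ =>
    Nat.cast_injective (R := ℂ) (by
      rw [BrauerRey.deg_cast, BrauerRey.deg_cast]
      exact HypOne.Shape.eq_on_regular h sh hθ hθ₀ h1r)
  have hrel := HypOne.Shape.relation h sh hθ₀ h1r
  have hint : (δ : ℤ) * (BrauerRey.deg θ₀ : ℤ) =
      ∑ χ ∈ h.bset φ \ Y, (-m χ) * (BrauerRey.deg χ : ℤ) := by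
    refine Int.cast_injective (α := ℂ) ?_
    push_cast
    simp only [BrauerRey.deg_cast, neg_mul, Finset.sum_neg_distrib]
    linear_combination hrel
  refine ⟨_, BrauerRey.deg_pos θ₀, hdY, hint, fun r => ?_⟩
  -- column orthogonality of the principal section against the identity
  have h0 : ∑ χ : IrrCharacter G, sec p z φ χ r * (χ : G → ℂ) 1 = 0 := by
    simp only [h.sec_eq_sum, Finset.sum_mul]
    rw [Finset.sum_comm]
    refine Finset.sum_eq_zero fun j _ => ?_
    rw [Finset.sum_congr rfl (g := fun χ => zc p (r * j : ZMod p) *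
      ((h.dd φ χ j : ℂ) * (χ : G → ℂ) 1)) fun χ _ => by ring, ← Finset.mul_sum,
      h.sum_dd_mul_apply φ j h1r, mul_zero]
  rw [← Finset.sum_subset (Finset.subset_univ (h.bset φ)) (fun χ _ hχ => by
    rw [(h.dd_eq_zero_iff φ χ).1 (h.not_mem_bset_iff.1 hχ) r, zero_mul]),
    ← Finset.sum_sdiff sh.subset,
    Finset.sum_congr rfl (g := fun χ => -(m χ : ℂ) * (χ : G → ℂ) 1) (fun χ hχ => by
      rw [HypOne.Shape.sec_X h sh hχ r]),
    Finset.sum_congr (s₁ := Y) rfl (g := fun θ => sec p z φ θ r * (θ₀ : G → ℂ) 1) (fun θ hθ => by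
      rw [← BrauerRey.deg_cast, ← BrauerRey.deg_cast, hdY θ hθ]), ← Finset.sum_mul] at h0
  have h2 : ((∑ θ ∈ Y, sec p z φ θ r) + (δ : ℂ)) * (θ₀ : G → ℂ) 1 = 0 := by
    simp only [neg_mul, Finset.sum_neg_distrib] at h0
    linear_combination h0 + hrel
  exact eq_neg_of_add_eq_zero_left
    ((mul_eq_zero.1 h2).resolve_right (CharTools.irr_apply_one_ne_zero θ₀))

/-- Some character has degree `p - 1` and the value `-1` on the section of `z`. -/
theorem exists_minus (h : HypOne p z) (hperf : commutator G = ⊤) {n : ℕ}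
    (hn : Nat.card (Sylow p G) = 1 + n * p) (hform : ¬ IsForm p n) :
    ∃ χ : IrrCharacter G, BrauerRey.deg χ + 1 = p ∧
      ∀ i, ¬ p ∣ i → ∀ v : regPart p z, (χ : G → ℂ) (z ^ i * (v : G)) = -1 := by
  obtain ⟨e, t, he, ht, het, hn0, hce, hct, hrel, hidx⟩ := exists_nums h hperf hn
  set φ : IrrCharacter (regPart p z) := CfsgLib.Char.principalIrr with hφ
  obtain ⟨Y, δ, m, sh⟩ := h.exists_shape φ
  obtain ⟨f, hf, hdY, hint, hsY⟩ := shape_facts h sh
  have h1p : ¬ p ∣ 1 := h.prime.not_dvd_one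
  have hp1 := h.prime.two_le
  have hval : ∀ χ ∈ h.bset φ \ Y, ∀ i, ¬ p ∣ i → ∀ v : regPart p z,
      (χ : G → ℂ) (z ^ i * (v : G)) = -(m χ : ℂ) := fun χ hχ i hi v =>
    HypOne.Shape.principal_singular h sh hχ hi v
  have hdX : ∀ χ ∈ h.bset φ \ Y, BrauerRey.deg χ ∣ e * (1 + n * p) := fun χ hχ => by
    rw [← hidx]
    refine dvd_index_of_sum {χ} (BrauerRey.deg_pos χ).ne' (fun ψ hψ => by
      rw [Finset.mem_singleton.1 hψ]) (s := -m χ) ?_ ?_
    · rcases sh.m_sign χ hχ with e1 | e1 <;> simp [e1]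
    · rw [Finset.sum_singleton, Int.cast_neg]
      simpa using hval χ hχ 1 h1p 1
  have hdf : f ∣ e * (1 + n * p) := by
    rw [← hidx]
    refine dvd_index_of_sum Y hf.ne' hdY (s := -δ) ?_ ?_
    · rcases sh.δ_sign with e1 | e1 <;> simp [e1]
    · rw [Int.cast_neg, ← hsY 1]
      refine Finset.sum_congr rfl fun θ hθ => ?_
      have := val_bset h (sh.subset hθ) h1p 1
      simpa using this
  by_contra hcon
  push Not at hcon
  -- the degree of a member with constant sign
  have hkey : ∀ (χ : IrrCharacter G) (s : ℤ), (s = 1 ∨ s = -1) → BrauerRey.deg χ ∣ e * (1 + n * p) →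
      (BrauerRey.deg χ : ℤ) ≡ s [ZMOD p] → χ ≠ CfsgLib.Char.principalIrr →
      (∀ i, ¬ p ∣ i → ∀ v : regPart p z, (χ : G → ℂ) (z ^ i * (v : G)) = (s : ℂ)) →
      (s = 1 ∧ BrauerRey.deg χ = 1 + n * p) ∨
        (t = 1 ∧ s = -1 ∧ BrauerRey.deg χ = e * (1 + n * p)) := by
    intro χ s hs hd hmod hne hv
    obtain ⟨v, hv'⟩ := hd
    have hcast : ((BrauerRey.deg χ : ℕ) : ZMod p) = ((s : ℤ) : ZMod p) := by
      rw [← (ZMod.intCast_eq_intCast_iff _ _ p).2 hmod, Int.cast_natCast]
    rcases hs with rfl | rfl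
    · refine Or.inl ⟨rfl, plus_degree het hform ?_ (by simpa using hcast) hv'.symm⟩
      have := BrauerRey.deg_pos χ
      rcases Nat.lt_or_ge 1 (BrauerRey.deg χ) with h1 | h1
      · exact h1
      · exact absurd (eq_principal_of_deg_eq_one hperf (by omega)) hne
    · rcases minus_degree het hform (by simpa using hcast) hv'.symm with h1 | ⟨h1, h2⟩
      · obtain ⟨i, hi, w, hw⟩ := hcon χ h1
        exact absurd (by simpa using hv i hi w) hw
      · exact Or.inr ⟨h2, rfl, by rw [hv', h1, mul_one]⟩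
  have hmX : ∀ χ ∈ h.bset φ \ Y, (BrauerRey.deg χ : ℤ) ≡ -m χ [ZMOD p] := fun χ hχ =>
    HypOne.Shape.principal_degree_X h sh hχ
  have hXcard : (h.bset φ \ Y).card = e := by rw [sh.card_X, hce]
  have hYcard : Y.card = t := by rw [sh.card_Y, hct]
  have hdeg1 : BrauerRey.deg (CfsgLib.Char.principalIrr : IrrCharacter G) = 1 :=
    CharTools.charDegree_principal
  have hpr := h.principalIrr_mem_bset
  rcases Nat.lt_or_ge 1 t with ht2 | ht1
  · -- the principal character is not exceptional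
    have hX : (CfsgLib.Char.principalIrr : IrrCharacter G) ∈ h.bset φ \ Y := by
      refine Finset.mem_sdiff.2 ⟨hpr, fun hY => ?_⟩
      have hall : ∀ θ ∈ Y, θ = CfsgLib.Char.principalIrr := fun θ hθ =>
        eq_principal_of_deg_eq_one hperf (by rw [hdY θ hθ, ← hdY _ hY, hdeg1])
      have : Y.card ≤ 1 := Finset.card_le_one.2 fun a ha b hb => (hall a ha).trans (hall b hb).symm
      omega
    have hσ : m (CfsgLib.Char.principalIrr : IrrCharacter G) = -1 := by
      have h1 := hval _ hX 1 h1p 1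
      rw [CfsgLib.Char.principalIrr_apply] at h1
      have h2 : ((m CfsgLib.Char.principalIrr : ℤ) : ℂ) = ((-1 : ℤ) : ℂ) := by
        push_cast; linear_combination h1
      exact_mod_cast h2
    rw [← Finset.add_sum_erase _ _ hX, hσ, hdeg1,
      Finset.sum_congr rfl (g := fun _ => ((1 + n * p : ℕ) : ℤ)) (fun χ hχ => by
        obtain ⟨hne, hχ'⟩ := Finset.mem_erase.1 hχ
        rcases hkey χ (-m χ) (by rcases sh.m_sign χ hχ' with e1 | e1 <;> simp [e1])
          (hdX χ hχ') (hmX χ hχ') hne (fun i hi v => by rw [hval χ hχ' i hi v, Int.cast_neg])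
          with ⟨h1, h2⟩ | ⟨h1, -, -⟩
        · rw [h1, h2, one_mul]
        · omega),
      Finset.sum_const, Finset.card_erase_of_mem hX, hXcard, nsmul_eq_mul] at hint
    exact not_all_plus het he ht hn0 sh.δ_sign hdf (by simpa using hint)
  · -- a single exceptional character
    have ht' : t = 1 := by omega
    subst ht'
    obtain ⟨θ, hθY⟩ := Finset.card_eq_one.1 hYcard
    set s : IrrCharacter G → ℤ := fun χ => if χ ∈ Y then -δ else -m χ with hs
    have hsum : ∑ χ ∈ h.bset φ, s χ * (BrauerRey.deg χ : ℤ) = 0 := by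
      rw [← Finset.sum_sdiff sh.subset, Finset.sum_congr rfl (g := fun χ => -m χ *
        (BrauerRey.deg χ : ℤ)) (fun χ hχ => by simp [hs, (Finset.mem_sdiff.1 hχ).2]), ← hint]
      rw [hθY, Finset.sum_singleton]
      simp [hs, hθY, hdY θ (by simp [hθY])]
    have hdata : ∀ χ ∈ h.bset φ, (s χ = 1 ∨ s χ = -1) ∧ BrauerRey.deg χ ∣ e * (1 + n * p) ∧
        (BrauerRey.deg χ : ℤ) ≡ s χ [ZMOD p] ∧
        ∀ i, ¬ p ∣ i → ∀ v : regPart p z, (χ : G → ℂ) (z ^ i * (v : G)) = (s χ : ℂ) := by
      intro χ hχ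
      by_cases hY : χ ∈ Y
      · have hsχ : s χ = -δ := if_pos hY
        refine ⟨?_, hdY χ hY ▸ hdf, ?_, fun i hi v => ?_⟩
        · rcases sh.δ_sign with e1 | e1 <;> simp [hsχ, e1]
        · refine (HypOne.Shape.principal_degree_Y h sh hY).trans ?_
          rw [hsχ, hrel, Int.modEq_iff_dvd]
          refine ⟨-δ, ?_⟩
          rw [← het]; push_cast; ring
        · have hu : (i : ZMod p) ≠ 0 := fun e1 => hi ((ZMod.natCast_eq_zero_iff _ _).1 e1)
          rw [val_bset h hχ hi v, hsχ, Int.cast_neg, ← hsY (Units.mk0 _ hu)]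
          obtain rfl : χ = θ := by simpa [hθY] using hY
          rw [hθY, Finset.sum_singleton]
          rfl
      · have hsχ : s χ = -m χ := if_neg hY
        have hχ' : χ ∈ h.bset φ \ Y := Finset.mem_sdiff.2 ⟨hχ, hY⟩
        refine ⟨?_, hdX χ hχ', hsχ ▸ hmX χ hχ', fun i hi v => by
          rw [hval χ hχ' i hi v, hsχ, Int.cast_neg]⟩
        rcases sh.m_sign χ hχ' with e1 | e1 <;> simp [hsχ, e1]
    have hdiv : ((1 + n * p : ℕ) : ℤ) ∣
        ∑ χ ∈ (h.bset φ).erase CfsgLib.Char.principalIrr, s χ * (BrauerRey.deg χ : ℤ) := by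
      refine Finset.dvd_sum fun χ hχ => ?_
      obtain ⟨hne, hχ'⟩ := Finset.mem_erase.1 hχ
      obtain ⟨h1, h2, h3, h4⟩ := hdata χ hχ'
      rcases hkey χ (s χ) h1 h2 h3 hne h4 with ⟨-, h5⟩ | ⟨-, -, h5⟩
      · rw [h5]; exact dvd_mul_left _ _
      · rw [h5]; push_cast; exact ⟨s χ * e, by ring⟩
    rw [← Finset.add_sum_erase _ _ hpr, hdeg1, Nat.cast_one, mul_one] at hsum
    have hone : ((1 + n * p : ℕ) : ℤ) ∣ 1 := by
      have h1 : ((1 + n * p : ℕ) : ℤ) ∣ s (CfsgLib.Char.principalIrr : IrrCharacter G) := by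
        rw [eq_neg_of_add_eq_zero_left hsum]; exact hdiv.neg_right
      rcases (hdata _ hpr).1 with e1 | e1 <;> rw [e1] at h1
      · exact h1
      · exact (dvd_neg).1 h1
    have h6 : 1 + n * p ∣ 1 := by exact_mod_cast hone
    have := Nat.le_mul_of_pos_left p hn0
    have := Nat.le_of_dvd one_pos h6
    omega

/-- With trivial `p'`-core the centraliser of `z` is `⟨z⟩`. -/
theorem ctx_of_not_form (h : HypOne p z) (hperf : commutator G = ⊤)
    (hcore : Cfsg.pPrimeCore p G = ⊥) {n : ℕ} (hn : Nat.card (Sylow p G) = 1 + n * p)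
    (hform : ¬ IsForm p n) : BrauerRey.Ctx p z := by
  have hp := h.prime
  obtain ⟨χ, hdeg, hval⟩ := exists_minus h hperf hn hform
  obtain ⟨K, hKn, hK, -⟩ := CharTools.exists_kernel (CfsgLib.Char.IsIrrCharacter.isCharacter χ.2)
  have hzK : ∀ i, ¬ p ∣ i → z ^ i ∉ K := by
    intro i hi hmem
    have h1 := hval i hi 1
    rw [Subgroup.coe_one, mul_one, (hK _).1 hmem, ← BrauerRey.deg_cast] at h1
    have h2 : ((BrauerRey.deg χ : ℤ) : ℂ) = ((-1 : ℤ) : ℂ) := by push_cast; exact h1
    have h3 : (BrauerRey.deg χ : ℤ) = -1 := by exact_mod_cast h2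
    omega
  have hKp : ¬ p ∣ Nat.card K := by
    intro hd
    obtain ⟨⟨x, hx⟩, hxo⟩ := exists_prime_orderOf_dvd_card' (G := K) p hd
    rw [Subgroup.orderOf_mk] at hxo
    have hc : ∀ w : G, orderOf w = p →
        Nat.card (Subgroup.zpowers w) = p ^ (Nat.card G).factorization p := fun w hw => by
      rw [Nat.card_zpowers, hw, h.factorization_eq_one, pow_one]
    let P₁ : Sylow p G := Sylow.ofCard _ (hc x hxo)
    let P₂ : Sylow p G := Sylow.ofCard _ (hc z h.orderOf_x)
    obtain ⟨g, hg⟩ := MulAction.exists_smul_eq G P₁ P₂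
    have hle : (P₂ : Subgroup G) ≤ K := by
      rw [← hg, Sylow.coe_subgroup_smul]
      rintro _ ⟨w, hw, rfl⟩
      exact hKn.conj_mem w (Subgroup.zpowers_le.2 hx hw) g
    exact hzK 1 hp.not_dvd_one (by rw [pow_one]; exact hle (Subgroup.mem_zpowers z))
  have hKbot : K = ⊥ := by
    rw [eq_bot_iff, ← hcore]
    exact CfsgLib.Solvable.le_pPrimeCore hKn ((hp.coprime_iff_not_dvd.2 hKp).symm)
  have hV : regPart p z = ⊥ := by
    rw [Subgroup.eq_bot_iff_forall]
    intro v hv
    have hmem : v ∈ K := by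
      obtain ⟨N, ρ, hρ, hχρ⟩ := χ.2
      haveI := Fintype.ofFinite (Subgroup.zpowers z)
      haveI : Invertible (Nat.card (Subgroup.zpowers z) : ℂ) := invertibleOfNonzero (by
        rw [h.card_zpowers]; exact Nat.cast_ne_zero.2 hp.ne_zero)
      let b : ZMod p → Subgroup.zpowers z := fun a =>
        ⟨z ^ a.val, pow_mem (Subgroup.mem_zpowers z) _⟩
      have hb : Function.Bijective b := by
        rw [Nat.bijective_iff_injective_and_card]
        exact ⟨fun a a' he => h.pow_val_eq_iff.1 (congrArg Subtype.val he),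
          by rw [Nat.card_zmod, h.card_zpowers]⟩
      have hsum : ∀ (g : G), (∀ a : (ZMod p)ˣ, (χ : G → ℂ) (z ^ (a : ZMod p).val * g) = -1) →
          ∑ x : Subgroup.zpowers z, (χ : G → ℂ) ((x : G) * g) = (χ : G → ℂ) g - ((p - 1 : ℕ) : ℂ) := by
        intro g hg
        rw [← (Equiv.ofBijective b hb).sum_comp, CfsgLib.DefectOne.sum_zmod_split]
        simp only [Equiv.ofBijective_apply, b]
        rw [Finset.sum_congr rfl fun a _ => hg a, Finset.sum_const, Finset.card_univ,
          ZMod.card_units, nsmul_eq_mul]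
        simp [sub_eq_add_neg]
      have hone : ∑ x : Subgroup.zpowers z, (χ : G → ℂ) ((x : G) * 1) = 0 := by
        rw [hsum 1 (fun a => by simpa using hval _ (h.not_dvd_val a) 1), ← BrauerRey.deg_cast,
          sub_eq_zero]
        exact_mod_cast (show BrauerRey.deg χ = p - 1 by omega)
      let τ : Representation ℂ (Subgroup.zpowers z) (Fin N → ℂ) := ρ.comp (Subgroup.zpowers z).subtype
      set S : Module.End ℂ (Fin N → ℂ) := ∑ x : Subgroup.zpowers z, ρ (x : G) with hS
      have hinv : Module.finrank ℂ (Representation.invariants τ) = 0 := by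
        have h1 := Representation.card_inv_mul_sum_char_eq_finrank τ
        have h2 : ∑ x : Subgroup.zpowers z, τ.character x = 0 := by
          rw [← hone]
          refine Finset.sum_congr rfl fun x _ => ?_
          rw [mul_one, ← hχρ]
          rfl
        rw [h2, mul_zero] at h1
        exact_mod_cast h1.symm
      have hS0 : S = 0 := by
        refine LinearMap.ext fun w => ?_
        have hw : S w ∈ Representation.invariants τ := by
          rw [Representation.mem_invariants]
          intro a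
          rw [hS, LinearMap.sum_apply, map_sum]
          refine Fintype.sum_equiv (Equiv.mulLeft a) _ _ fun x => ?_
          show ρ (a : G) (ρ (x : G) w) = _
          rw [← Module.End.mul_apply, ← map_mul]
          rfl
        rw [Submodule.finrank_eq_zero.1 hinv, Submodule.mem_bot] at hw
        exact hw
      have hzero : ∑ x : Subgroup.zpowers z, (χ : G → ℂ) ((x : G) * v) = 0 := by
        rw [← hχρ]
        show ∑ x : Subgroup.zpowers z, LinearMap.trace ℂ _ (ρ ((x : G) * v)) = 0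
        rw [← map_sum]
        simp only [map_mul]
        rw [← Finset.sum_mul, ← hS, hS0, zero_mul, map_zero]
      rw [hsum v (fun a => hval _ (h.not_dvd_val a) ⟨v, hv⟩), sub_eq_zero] at hzero
      refine (hK v).2 ?_
      rw [hzero, ← BrauerRey.deg_cast]
      exact_mod_cast (show p - 1 = BrauerRey.deg χ by omega)
    rw [hKbot] at hmem
    exact Subgroup.mem_bot.1 hmem
  refine ⟨hp, hperf, h.orderOf_x, ?_⟩
  show cent z = Subgroup.zpowers z
  refine (Subgroup.eq_of_le_of_card_ge (Subgroup.zpowers_le.2 self_mem_cent) ?_).symm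
  rw [h.card_cent, hV, Subgroup.card_bot, mul_one, h.card_zpowers]

end CfsgLib.CharDeep.BrauerNumber
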