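import Cfsg.Agent.Lib.BrauerRey.Main
import Cfsg.Agent.Lib.CharDeep.BrauerNumber.General

/-!
The degrees in the principal block when the number of Sylow subgroups has no exceptional form.
-/

set_option autoImplicit false

namespace CfsgLib.CharDeep.BrauerNumber

open Cfsg CfsgLib.DefectOne CfsgLib.BrauerRey
open scoped ComplexConjugate Classical

universe u

variable {G : Type u} [Group G] [Finite G] {p : ℕ} [Fact p.Prime] {z y : G} {e t n : ℕ}
  {X Y : Finset (IrrCharacter G)} {σ : IrrCharacter G → ℤ} {δ : ℤ} {f₀ : ℕ}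

theorem degree_X' (h : Num p z y e t n) (B : Blk p z e t X Y σ δ f₀) (hform : ¬ IsForm p n)
    {χ : IrrCharacter G} (hχ : χ ∈ X) (hne : χ ≠ CfsgLib.Char.principalIrr) :
    (σ χ = 1 ∧ BrauerRey.deg χ = 1 + n * p) ∨
      (σ χ = -1 ∧ BrauerRey.deg χ = e * t ∧ ∃ w, n + 1 = w * t) := by
  have hpos := BrauerRey.deg_pos χ
  have h1 : 1 < BrauerRey.deg χ := by
    rcases Nat.lt_or_ge 1 (BrauerRey.deg χ) with h1 | h1
    · exact h1
    · exact absurd (eq_principal_of_deg_eq_one h.ctx.perfect (by omega)) hne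
  obtain ⟨v, hv⟩ := deg_mul h (B.not_dvd χ (Finset.mem_union_left _ hχ))
  have hcast : ((BrauerRey.deg χ : ℕ) : ZMod p) = ((σ χ : ℤ) : ZMod p) := by
    rw [← (ZMod.intCast_eq_intCast_iff _ _ p).2 (B.mod_X χ hχ), Int.cast_natCast]
  rcases B.sign χ hχ with hs | hs
  · exact Or.inl ⟨hs, plus_degree h.het hform h1 (by simpa [hs] using hcast) hv⟩
  · refine Or.inr ⟨hs, ?_⟩
    have hsq : BrauerRey.deg χ ^ 2 + 1 ≤ Nat.card G := by
      rw [← sum_deg_sq]
      refine le_trans (le_of_eq ?_) (Finset.sum_le_sum_of_subset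
        (Finset.subset_univ {χ, CfsgLib.Char.principalIrr}))
      rw [Finset.sum_pair hne, show BrauerRey.deg (CfsgLib.Char.principalIrr : IrrCharacter G) = 1 from
        CharTools.charDegree_principal, one_pow]
    rw [h.card_eq, ← hv] at hsq
    have hlt : BrauerRey.deg χ < p * v := by
      refine Nat.lt_of_mul_lt_mul_left (a := BrauerRey.deg χ) ?_
      rw [show BrauerRey.deg χ * (p * v) = p * (BrauerRey.deg χ * v) by ring, ← sq]
      omega
    have het := h.het
    have hf : BrauerRey.deg χ + 1 = p := by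
      rcases minus_degree h.het hform (by simpa [hs] using hcast) hv with h2 | ⟨h2, h3⟩
      · exact h2
      · exfalso
        rw [h2, mul_one] at hlt
        rw [h2, mul_one] at hv
        rw [h3, mul_one] at het
        have hn := h.hn
        have h4 := Nat.le_mul_of_pos_left p hn
        have h5 : e * 2 ≤ e * (1 + n * p) := Nat.mul_le_mul_left e (by omega)
        have he := h.he
        omega
    refine ⟨by omega, ?_⟩
    have hN : t * v = 1 + n * p := by
      refine Nat.eq_of_mul_eq_mul_left (show 0 < e by have := h.he; omega) ?_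
      rw [← mul_assoc, show e * t = BrauerRey.deg χ by omega, hv]
    have hd : p ∣ t * (v + e) := by
      refine ⟨n + 1, ?_⟩
      calc t * (v + e) = t * v + e * t := by ring
        _ = p * (n + 1) := by rw [hN, ← h.het]; ring
    have htp : ¬ p ∣ t := fun hdt => by
      have := Nat.le_of_dvd h.ht hdt
      have := Nat.mul_le_mul_right t h.he
      omega
    obtain ⟨w, hw⟩ := ((h.ctx.prime.coprime_iff_not_dvd.2 htp)).dvd_of_dvd_mul_left hd
    refine ⟨w, Nat.eq_of_mul_eq_mul_left h.ctx.prime.pos ?_⟩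
    calc p * (n + 1) = t * v + e * t := by rw [hN, ← h.het]; ring
      _ = t * (v + e) := by ring
      _ = p * (w * t) := by rw [hw]; ring

/-- The parameter `t` is at least two. -/
theorem two_le_t (h : Num p z y e t n) (hform : ¬ IsForm p n) : 2 ≤ t := by
  by_contra hlt
  have ht1 : t = 1 := by have := h.ht; omega
  obtain ⟨χ, hdeg, hval⟩ := exists_minus h.ctx.hyp h.ctx.perfect h.card_sylow hform
  have het := h.het
  have hd : BrauerRey.deg χ = e * t := by omega
  have hr : ∀ r : (ZMod p)ˣ, (χ : G → ℂ) (z ^ (r : ZMod p).val) = -1 := fun r => by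
    simpa using hval _ (h.ctx.hyp.not_dvd_val r) 1
  obtain ⟨L, hL, hLq, hL1⟩ := h.exists_fix χ
  have h0 : L 1 = 0 := by
    rw [Finset.sum_congr rfl fun r _ => hr r, Finset.sum_const, Finset.card_univ, ZMod.card_units,
      nsmul_eq_mul, ← BrauerRey.deg_cast, hd, show p - 1 = e * t by omega] at hL1
    have : (p : ℂ) * L 1 = 0 := by rw [hL1]; ring
    exact (mul_eq_zero.1 this).resolve_left (Nat.cast_ne_zero.2 h.ctx.prime.ne_zero)
  have hvanish : ∀ q ∈ Subgroup.zpowers y, q ≠ 1 → (χ : G → ℂ) q = 0 := by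
    intro q hq hq1
    have hle := CfsgLib.Char.IsCharacter.norm_apply_le hL ⟨q, hq⟩
    rw [show CfsgLib.Char.degree L = 0 by simp [CfsgLib.Char.degree, h0], Nat.cast_zero,
      norm_le_zero_iff, hLq _ (fun e1 => hq1 (congrArg Subtype.val e1))] at hle
    exact hle
  obtain ⟨N, ρ, hρ, hχρ⟩ := χ.2
  have hN : N = e * t := by
    have h1 : (BrauerRey.deg χ : ℂ) = (N : ℂ) := by
      rw [BrauerRey.deg_cast, ← hχρ, Representation.char_one, Module.finrank_fin_fun]
    rw [← hd, Nat.cast_injective h1]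
  have h1 : Even ((e - 1) * t) := by
    refine even_of_regular h.ctx.perfect ρ h.orderOf_y (k := t)
      (by rw [Module.finrank_fin_fun, hN, mul_comm]) fun j hj => ?_
    rw [hχρ]
    refine hvanish _ (Subgroup.npow_mem_zpowers y j) fun hq1 => hj ?_
    rw [← h.orderOf_y]
    exact orderOf_dvd_of_pow_eq_one hq1
  rw [ht1, mul_one] at h1 het
  have he2 : Even e := by
    have h2 : Odd p := h.ctx.prime.odd_of_ne_two (by have := h.p_odd; omega)
    rwa [← het, Nat.odd_add_one, Nat.not_odd_iff_even] at h2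
  rw [Nat.even_sub (by have := h.he; omega)] at h1
  exact Nat.not_even_one (h1.1 he2)

theorem exists_degs' (h : Num p z y e t n) (B : Blk p z e t X Y σ δ f₀) (hform : ¬ IsForm p n) :
    ∃ w v Xp Xm, Degs p z y e t n X Y σ δ f₀ w v Xp Xm := by
  have ht2 := two_le_t h hform
  have hX := B.principal_X ht2
  have hσ1 := σ_principal h B hX
  obtain ⟨χ, hχ, hs, hd, w, hw⟩ :
      ∃ χ ∈ X, σ χ = -1 ∧ BrauerRey.deg χ = e * t ∧ ∃ w, n + 1 = w * t := by
    by_contra hcon
    have hr := rel_one h B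
    rw [← Finset.add_sum_erase _ _ hX, hσ1, deg_principal,
      Finset.sum_congr rfl (g := fun _ => ((1 + n * p : ℕ) : ℤ)) (fun χ hχ => by
        rcases degree_X' h B hform (Finset.mem_erase.1 hχ).2 (Finset.mem_erase.1 hχ).1 with
          ⟨h1, h2⟩ | h1
        · rw [h1, h2, one_mul]
        · exact absurd ⟨χ, (Finset.mem_erase.1 hχ).2, h1⟩ hcon),
      Finset.sum_const, Finset.card_erase_of_mem hX, B.card_X, nsmul_eq_mul] at hr
    exact not_all_plus h.het h.he h.ht h.hn B.δ_sign (mem_Y_dvd h B) (by simpa using hr)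
  have hw1 : 1 ≤ w := by
    rcases Nat.eq_zero_or_pos w with e1 | e1
    · rw [e1, zero_mul] at hw; omega
    · exact e1
  have hep : e ≤ w * p := by
    have h1 := Nat.mul_le_mul_right p hw1
    have h2 := Nat.mul_le_mul_left e h.ht
    have := h.het
    omega
  refine ⟨w, w * p - e,
    (X.erase CfsgLib.Char.principalIrr).filter (fun a => σ a = 1),
    (X.erase CfsgLib.Char.principalIrr).filter (fun a => ¬σ a = 1),
    h, B, ht2, hw, hw1, by omega, ?_, ?_, ?_, hσ1, ?_, ?_, ⟨χ, ?_⟩⟩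
  · rw [Finset.filter_union_filter_not_eq, Finset.insert_erase hX]
  · simp
  · exact Finset.disjoint_filter_filter_not _ _ _
  · intro a ha
    obtain ⟨h1, h2⟩ := Finset.mem_filter.1 ha
    rcases degree_X' h B hform (Finset.mem_erase.1 h1).2 (Finset.mem_erase.1 h1).1 with h3 | h3
    · exact h3
    · rw [h3.1] at h2; norm_num at h2
  · intro a ha
    obtain ⟨h1, h2⟩ := Finset.mem_filter.1 ha
    rcases degree_X' h B hform (Finset.mem_erase.1 h1).2 (Finset.mem_erase.1 h1).1 with h3 | h3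
    · exact absurd h3.1 h2
    · exact ⟨h3.1, h3.2.1⟩
  · refine Finset.mem_filter.2 ⟨Finset.mem_erase.2 ⟨fun e1 => ?_, hχ⟩, by rw [hs]; norm_num⟩
    rw [e1, hσ1] at hs; norm_num at hs

variable {w v : ℕ} {Xp Xm : Finset (IrrCharacter G)}

/-- The exceptional degree is `e` or `v`. -/
theorem exc_cases' (D : Degs p z y e t n X Y σ δ f₀ w v Xp Xm) (hform : ¬ IsForm p n) :
    (δ = 1 ∧ f₀ = e ∧ Xp.card * (n + 1) + 1 = e) ∨
      (δ = -1 ∧ f₀ = v ∧ w * (1 + Xp.card * t) + 1 = e) := by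
  have hr := D.degree_relation
  have hN := D.N_eq
  have hab := D.card_add
  have hd := mem_Y_dvd D.num D.blk
  rw [hN] at hd
  have hco : IsCoprime (f₀ : ℤ) (t : ℤ) := by
    refine ⟨δ, (Xm.card : ℤ) * e - (Xp.card : ℤ) * v, ?_⟩
    rw [hN] at hr
    push_cast at hr
    linear_combination hr
  have hdev : f₀ ∣ e * v := by
    have h1 : f₀ ∣ t * (e * v) := by
      rwa [show t * (e * v) = e * (t * v) by ring]
    exact_mod_cast hco.dvd_of_dvd_mul_left (y := (t : ℤ)) (z := ((e * v : ℕ) : ℤ))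
      (by exact_mod_cast h1)
  obtain ⟨c, hc⟩ := hdev
  have hcast : ((f₀ : ℕ) : ZMod p) = ((δ * e : ℤ) : ZMod p) := by
    rw [← (ZMod.intCast_eq_intCast_iff _ _ p).2 D.blk.mod_Y, Int.cast_natCast]
  have he0 : 0 < e := by have := D.num.he; omega
  have hp' : (e : ℤ) * t + 1 = p := by exact_mod_cast D.num.het
  have hnw' : (n : ℤ) + 1 = (w : ℤ) * t := by exact_mod_cast D.hnw
  have hv' : (v : ℤ) + e = (w : ℤ) * p := by exact_mod_cast D.hv
  have hab' : (Xp.card : ℤ) + Xm.card + 1 = e := by exact_mod_cast hab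
  push_cast at hr
  rcases D.blk.δ_sign with hs | hs
  · have hf := exc_plus D.num.het D.t2 hform he0 hN (by simpa [hs] using hcast) hc.symm
    refine Or.inl ⟨hs, hf, ?_⟩
    rw [hs, hf, one_mul] at hr
    have h2 : ((Xp.card : ℤ) * ((n : ℤ) + 1) + 1) * p = (e : ℤ) * p := by
      linear_combination -hr - ((Xp.card : ℤ) + 1 - e) * hp' + (e : ℤ) * t * hab'
    have h3 := mul_right_cancel₀ (show (p : ℤ) ≠ 0 by exact_mod_cast D.num.ctx.prime.ne_zero) h2
    exact_mod_cast h3
  · have hf := exc_minus D.num.het D.t2 hform he0 hN (by simpa [hs] using hcast) hc.symm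
    refine Or.inr ⟨hs, hf, ?_⟩
    rw [hs, hf] at hr
    have h2 : ((w : ℤ) * (1 + (Xp.card : ℤ) * t) + 1) * p = (e : ℤ) * p := by
      linear_combination -hr - hv' - (Xp.card : ℤ) * p * hnw' -
        ((Xp.card : ℤ) + 1 - e) * hp' + (e : ℤ) * t * hab'
    have h3 := mul_right_cancel₀ (show (p : ℤ) ≠ 0 by exact_mod_cast D.num.ctx.prime.ne_zero) h2
    exact_mod_cast h3

/-- The classification for a self-centralising element of order `p`. -/
theorem classification (h : BrauerRey.Ctx p z) {n : ℕ} (hn : Nat.card (Sylow p G) = 1 + n * p)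
    (hform : ¬ IsForm p n) :
    (∃ (F : Type) (_ : Field F) (_ : Fintype F), Fintype.card F = p ∧ 3 < p ∧
      Nonempty (G ≃* Matrix.ProjectiveSpecialLinearGroup (Fin 2) F)) ∨
    (∃ (m : ℕ) (F : Type) (_ : Field F) (_ : Fintype F), Fintype.card F = 2 ^ m ∧ p = 2 ^ m + 1 ∧
      3 < p ∧ Nonempty (G ≃* Matrix.ProjectiveSpecialLinearGroup (Fin 2) F)) := by
  obtain ⟨y, e, t, n', hnum⟩ := h.exists_num
  have hnn : n' = n := by
    have := hnum.card_sylow
    rw [hn] at this
    exact Nat.eq_of_mul_eq_mul_right h.prime.pos (by omega)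
  subst hnn
  obtain ⟨X, Y, σ, δ, f₀, B⟩ := hnum.exists_blk
  obtain ⟨w, v, Xp, Xm, D⟩ := exists_degs' hnum B hform
  rcases exc_cases' D hform with ⟨hδ, hf, -⟩ | ⟨hδ, hf, hrel⟩
  · obtain ⟨h1, h2⟩ := D.n_eq_one_of_plus hδ hf
    exact Or.inl (hnum.psl_of_one h1 h2)
  have N : Neg p z y e t n' X Y σ δ f₀ w v Xp Xm := ⟨D, hδ, hf, hrel⟩
  choose! k hk using fun χ (hχ : χ ∈ offBlock X Y) => off_dvd D hχ
  have hk' : ∀ χ ∈ offBlock X Y, BrauerRey.deg χ = p * k χ := fun χ hχ => (hk χ hχ).1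
  obtain ⟨u, hu, hu2, -⟩ := N.exists_u
  rcases N.e_or_t hu hu2 k hk' with he | ht
  · obtain ⟨m, F, iF, iFF, hF, hpm, hiso⟩ := N.two_of_e_two hu hu2 he k hk'
    refine Or.inr ⟨m, F, iF, iFF, hF, hpm, ?_, hiso⟩
    have := hnum.het
    have := D.t2
    rw [he] at *
    omega
  · obtain ⟨-, h1, -⟩ := N.w_one hu hu2 k hk'
    exact Or.inl (hnum.psl_of_one (by omega) ht)

end CfsgLib.CharDeep.BrauerNumber
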