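import Cfsg.Agent.Lib.CharDeep.BrauerNumber.Degrees
import Cfsg.Agent.Lib.CharDeep.PerfectCubed
import Cfsg.Prelude.Def_CaseTheorems

/-!
Brauer's theorem on perfect groups with Sylow subgroups of prime order.
-/

set_option autoImplicit false

namespace CfsgLib.CharDeep.BrauerNumber

open Cfsg CfsgLib.DefectOne

universe u

variable {G : Type u} [Group G] [Finite G] {p : ℕ} [Fact p.Prime]

theorem known_of_core_trivial (hperf : commutator G = ⊤) (hcore : Cfsg.pPrimeCore p G = ⊥)
    (P : Sylow p G) (hP : Nat.card P = p) {n : ℕ} (hn : Nat.card (Sylow p G) = 1 + n * p)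
    (hform : ¬ IsForm p n) : Cubed.Known p G := by
  obtain ⟨z, hz, -, -⟩ := exists_hypOne_of_sylow P hP
  exact classification (ctx_of_not_form hz hperf hcore hn hform) hn hform

/-- The reduction to a trivial `p'`-core. -/
theorem known_quotient (hperf : commutator G = ⊤) (P : Sylow p G) (hP : Nat.card P = p) {n : ℕ}
    (hn : Nat.card (Sylow p G) = 1 + n * p) (hform : ¬ IsForm p n) :
    Cubed.Known p (G ⧸ Cfsg.pPrimeCore p G) := by
  classical
  have hp : p.Prime := Fact.out
  set H := Cfsg.pPrimeCore p G with hH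
  set π := QuotientGroup.mk' H
  have hπ : Function.Surjective π := QuotientGroup.mk'_surjective H
  have hperf' : commutator (G ⧸ H) = ⊤ := by
    have h1 := Subgroup.map_commutator (f := π) (⊤ : Subgroup G) ⊤
    rw [← commutator_def, hperf, Subgroup.map_top_of_surjective _ hπ] at h1
    rw [commutator_def]; exact h1.symm
  set P' := P.mapSurjective hπ with hP'def
  have hinj : Function.Injective (π.comp (P : Subgroup G).subtype) := by
    rw [injective_iff_map_eq_one]
    intro x hx
    have hxH : (x : G) ∈ H := (QuotientGroup.eq_one_iff _).1 hx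
    have h1 : orderOf (x : G) = 1 := Nat.eq_one_of_dvd_coprimes
      (CfsgLib.Solvable.pPrimeCore_card_coprime p G)
      (Subgroup.orderOf_dvd_natCard H hxH) ((Subgroup.orderOf_dvd_natCard _ x.2).trans (dvd_of_eq hP))
    exact Subtype.ext (orderOf_eq_one_iff.1 h1)
  have hP' : Nat.card P' = p := by
    show Nat.card ((P.mapSurjective hπ : Sylow p (G ⧸ H)) : Subgroup (G ⧸ H)) = p
    rw [Sylow.coe_mapSurjective, ← (P : Subgroup G).range_subtype, MonoidHom.map_range,
      ← Nat.card_congr (MonoidHom.ofInjective hinj).toEquiv]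
    exact hP
  have hidx : ∃ k, Nat.card (Sylow p G) = Nat.card (Sylow p (G ⧸ H)) * k := by
    have h1 := Sylow.card_eq_index_normalizer P
    have h2 := Sylow.card_eq_index_normalizer P'
    rw [h1, h2, ← Subgroup.index_comap_of_surjective _ hπ]
    refine Subgroup.index_dvd_of_le ?_
    show Subgroup.normalizer ((P : Subgroup G) : Set G) ≤ Subgroup.comap π
      (Subgroup.normalizer (((P.mapSurjective hπ : Sylow p (G ⧸ H)) : Subgroup (G ⧸ H)) : Set (G ⧸ H)))
    rw [Sylow.coe_mapSurjective]
    exact Subgroup.map_le_iff_le_comap.1 (Subgroup.le_normalizer_map π)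
  obtain ⟨k, hk⟩ := hidx
  obtain ⟨m, hm⟩ : ∃ m, Nat.card (Sylow p (G ⧸ H)) = 1 + m * p := by
    obtain ⟨m, hm⟩ := (Nat.modEq_iff_dvd' Nat.card_pos).1 (card_sylow_modEq_one p (G ⧸ H)).symm
    refine ⟨m, ?_⟩
    have := Nat.card_pos (α := Sylow p (G ⧸ H))
    rw [mul_comm]; omega
  obtain ⟨z, hz, -, -⟩ := exists_hypOne_of_sylow P' hP'
  obtain ⟨-, -, -, -, -, hm0, -⟩ := exists_nums hz hperf' hm
  rw [hn, hm] at hk
  have hk1 : (k : ZMod p) = 1 := by
    have h1 := congrArg (Nat.cast : ℕ → ZMod p) hk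
    push_cast at h1
    rw [ZMod.natCast_self, mul_zero, mul_zero, add_zero, one_mul] at h1
    exact h1.symm
  obtain ⟨j, hj⟩ : ∃ j, k = 1 + j * p := by
    refine ⟨k / p, ?_⟩
    have h1 := mod_one_of_cast hk1
    have := Nat.div_add_mod' k p
    omega
  rw [hj] at hk
  rcases Nat.eq_zero_or_pos j with hj0 | hj0
  · rw [hj0, zero_mul, add_zero, mul_one] at hk
    obtain rfl : m = n := Nat.eq_of_mul_eq_mul_right hp.pos (by omega)
    exact known_of_core_trivial hperf' (CfsgLib.Solvable.pPrimeCore_quotient_eq_bot H rfl) P' hP'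
      hm hform
  · exact absurd (isForm_of_split hm0 hj0 hk) hform

end CfsgLib.CharDeep.BrauerNumber
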